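import Cfsg.Agent.Chevalley.Parabolic
/-!
A set of positive roots closed under the commutator formula with a positive root generates a
subgroup normalised by that root group.
-/

set_option autoImplicit false

namespace CfsgLib.IterCore

open Cfsg.Lie CfsgLib.Chevalley
open scoped MatrixGroups

variable {D : ChevalleyDatum} {F : Type*} [Field F]

theorem X_conj_closedSet (hW : GoodWeyl D) {S : Set (Root D)}
    (hpos : ∀ r ∈ S, half D ≤ (r : ℕ)) {a : Root D}
    (hcl : ∀ c ∈ S, ∀ e ∈ D.commTerms c a, ∃ h : e.1 < D.nroots, (⟨e.1, h⟩ : Root D) ∈ S)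
    (ha : half D ≤ (a : ℕ)) (v : F) {g : GL D.Idx F} (hg : g ∈ rootGen hW.good F S) :
    X hW.good a v * g * (X hW.good a v)⁻¹ ∈ rootGen hW.good F S := by
  suffices H : ∀ i m, D.nroots ≤ m + i → ∀ {g : GL D.Idx F},
      g ∈ rootGen hW.good F (S ∩ {r | m ≤ (r : ℕ)}) →
      X hW.good a v * g * (X hW.good a v)⁻¹ ∈
        rootGen hW.good F (S ∩ {r | m ≤ (r : ℕ)}) by
    refine rootGen_mono hW.good (fun r hr => hr.1) (H D.nroots 0 (by omega) ?_)
    exact rootGen_mono hW.good (fun r hr => show r ∈ S ∧ 0 ≤ (r : ℕ) from ⟨hr, Nat.zero_le _⟩) hg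
  intro i
  induction i with
  | zero =>
    intro m hm g hg
    have : g ∈ (⊥ : Subgroup (GL D.Idx F)) :=
      rootGen_le hW.good
        (fun r hr t => absurd (Nat.le_trans hm hr.2) (by simpa using r.isLt)) hg
    rw [Subgroup.mem_bot] at this
    simp [this]
  | succ i ih =>
    intro m hm g hg
    refine (rootGen_le hW.good (K := (rootGen hW.good F (S ∩ {r | m ≤ (r : ℕ)})).comap
      (MulAut.conj (X hW.good a v)).toMonoidHom) fun c hc w => ?_) hg
    show X hW.good a v * X hW.good c w * (X hW.good a v)⁻¹ ∈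
      rootGen hW.good F (S ∩ {r | m ≤ (r : ℕ)})
    rcases eq_or_ne a c with rfl | hac
    · rw [X_mul, X_inv, X_mul, show v + w + -v = w by ring]
      exact X_mem_rootGen _ hc _
    have hcp := hpos c hc.1
    have hC : GoodComm D := hW.toGoodComm
    rw [X_comm hC c a hac (hW.good.rev_ne_of_key (b := false) hcp ha) w v,
      show ∀ p q W : GL D.Idx F, p * q * W * q⁻¹ = p * (q * W * q⁻¹) from
        fun p q W => by group]
    refine mul_mem (X_mem_rootGen _ hc _) (rootGen_mono hW.good
      (fun r hr => show r ∈ S ∧ m ≤ (r : ℕ) from ⟨hr.1, by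
        have : m + 1 ≤ (r : ℕ) := hr.2; omega⟩) (ih (m + 1) (by omega) ?_))
    refine Subgroup.list_prod_mem _ fun x hx => ?_
    simp only [List.map_map, List.mem_map] at hx
    obtain ⟨e, he, rfl⟩ := hx
    obtain ⟨h, h1⟩ := hcl c hc.1 e he
    obtain ⟨_, h2, -⟩ := Good.commTerms_key (b := false) hW.toGoodComm hcp ha he
    simp only [key, Bool.false_eq_true, if_false] at h2
    simp only [Function.comp_apply, dif_pos h]
    refine X_mem_rootGen _ (S := S ∩ {r | m + 1 ≤ (r : ℕ)}) ⟨h1, ?_⟩ _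
    have := hc.2
    simp only [Set.mem_setOf_eq] at this ⊢
    omega

end CfsgLib.IterCore
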