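import Cfsg.Agent.Chevalley.WeylData
/-!
Finite facts about the tables of `E₈` used for the iterated cores of the maximal parabolic
subgroup belonging to the branch node.
-/

set_option autoImplicit false

namespace CfsgLib.IterCore

open Cfsg.Lie CfsgLib.Chevalley

/-- The fundamental coweight of the branch node in the basis of fundamental roots. -/
def cw : List ℤ := [10, 15, 20, 30, 24, 18, 12, 6]

/-- The level of a root, computed from the tries. -/
def levT (r : ℕ) : ℤ := ((List.range 8).map fun l => cw.getD l 0 * cartanT chevE8 l r).sum

def chkLevel : Bool :=
  (List.range 240).all fun r =>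
    (decide (r < 120) || decide (0 ≤ levT r)) && (decide (levT r ≤ 6)) &&
      (decide (levT r < 2) || decide (levT r - 1 ≤ levT (reflT chevE8 3 r))) &&
      (decide (levT r = coT chevE8 r 3))

/-- The fundamental root by which the leading root is raised. -/
def upIdx (r : ℕ) : ℕ :=
  ((List.range 8).find? fun j => !(entryT chevE8 r (chevE8.simple j)).isEmpty &&
    (List.range' (r + 1) (239 - r)).all fun s =>
      (entryT chevE8 s (chevE8.simple j)).all fun q =>
        decide (((entryT chevE8 r (chevE8.simple j)).headD (0, 0)).1 < q.1)).getD 8

def chkUpRoot (r : ℕ) : Bool :=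
  let j := upIdx r
  let a := chevE8.simple j
  decide (j < 8) && (entryT chevE8 a r).length ≤ 1 &&
    (match entryT chevE8 r a with
      | [(_, c)] => c.natAbs == 1
      | _ => false) &&
    (List.range' (r + 1) (239 - r)).all fun s =>
      decide ((entryT chevE8 a s).length ≤ 1) && decide ((entryT chevE8 s a).length ≤ 1) &&
        (entryT chevE8 s a).all fun q =>
          decide (((entryT chevE8 r a).headD (0, 0)).1 < q.1)

def chkUp : Bool := (List.range' 120 119).all chkUpRoot

/-- Roots of positive level lowered by the reflections fixing the level. -/
def lowRoot : List ℕ := [164, 142, 136, 0, 131, 132, 133, 134]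

def chkLow : Bool :=
  (List.range 8).all fun j => (j == 3) ||
    (decide (1 ≤ levT (lowRoot.getD j 0)) && decide (lowRoot.getD j 0 < 240) &&
      decide (reflT chevE8 j (lowRoot.getD j 0) < lowRoot.getD j 0))

theorem chkLevel_true : chkLevel = true := by decide +kernel

theorem chkUp_true : chkUp = true := by decide +kernel

theorem chkLow_true : chkLow = true := by decide +kernel

/-- The reflections leading from the highest root to the branch node. -/
def segs : List (List ℕ) := [[7, 6, 5, 4], [1, 2], [0, 2, 4], [1, 5, 4], [2, 6, 5, 4]]

def lastSeg : List ℕ := [0, 1, 2, 7, 6, 5, 4]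

/-- Apply a word of reflections from the left end. -/
def walk (r : ℕ) (L : List ℕ) : ℕ := L.foldl (fun x j => reflT chevE8 j x) r

def chkPath : Bool :=
  walk (segs.foldl (fun x L => reflT chevE8 3 (walk x L)) 239) lastSeg == chevE8.simple 3

theorem chkPath_true : chkPath = true := by decide +kernel

end CfsgLib.IterCore
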