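import Cfsg.Agent.IterCore.E8Parabolic
/-!
The iterated cores of two conjugate maximal parabolic subgroups of `E₈(2)`: the sixth is trivial
and the fifth is not.
-/

set_option autoImplicit false
set_option maxRecDepth 4000
set_option maxHeartbeats 1000000

namespace CfsgLib.IterCore

open Cfsg.Lie CfsgLib.Chevalley CfsgLib.ChevUnip
open scoped MatrixGroups

/-- The core in `M` of a subgroup, as a subgroup of the whole group. -/
def coreIn {G : Type*} [Group G] (M Y : Subgroup G) : Subgroup G :=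
  (Y.subgroupOf M).normalCore.map M.subtype

theorem mem_coreIn {G : Type*} [Group G] {M Y : Subgroup G} {x : G} :
    x ∈ coreIn M Y ↔ x ∈ M ∧ ∀ m ∈ M, m * x * m⁻¹ ∈ Y := by
  constructor
  · rintro ⟨y, hy, rfl⟩
    exact ⟨y.2, fun m hm => hy ⟨m, hm⟩⟩
  · rintro ⟨hx, h⟩
    exact ⟨⟨x, hx⟩, fun m => h m m.2, rfl⟩

/-- Conjugation by the reflection representative. -/
noncomputable def sigma : Ge →* Ge := (MulAut.conj gE).toMonoidHom

theorem sigma_apply (x : Ge) : sigma x = gE * x * gE := by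
  show gE * x * gE⁻¹ = _
  rw [gE_inv]

theorem sigma_sigma (x : Ge) : sigma (sigma x) = x := by
  rw [sigma_apply, sigma_apply,
    show gE * (gE * x * gE) * gE = (gE * gE) * x * (gE * gE) by group, gE_mul_self, one_mul,
    mul_one]

theorem mem_map_sigma {Y : Subgroup Ge} {x : Ge} : x ∈ Y.map sigma ↔ sigma x ∈ Y := by
  constructor
  · rintro ⟨y, hy, rfl⟩
    rwa [sigma_sigma]
  · exact fun h => ⟨sigma x, h, sigma_sigma x⟩

/-- The descending cores of the first parabolic subgroup. -/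
noncomputable def itA : ℕ → Subgroup Ge
  | 0 => M1
  | i + 1 => coreIn M1 (itA i ⊓ (itA i).map sigma)

theorem mem_itA_succ {i : ℕ} {x : Ge} :
    x ∈ itA (i + 1) ↔
      x ∈ M1 ∧ ∀ m ∈ M1, m * x * m⁻¹ ∈ itA i ∧ sigma (m * x * m⁻¹) ∈ itA i := by
  rw [itA, mem_coreIn]
  simp only [Subgroup.mem_inf, mem_map_sigma]

theorem map_sigma_succ (i : ℕ) :
    (itA (i + 1)).map sigma = coreIn (M1.map sigma) (itA i ⊓ (itA i).map sigma) := by
  ext x
  rw [mem_map_sigma, itA, mem_coreIn, mem_coreIn]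
  simp only [Subgroup.mem_inf, mem_map_sigma]
  refine and_congr_right fun _ => ⟨fun h m hm => ?_, fun h m hm => ?_⟩
  · have := h (sigma m) hm
    rw [← map_inv, ← map_mul, ← map_mul, sigma_sigma] at this
    exact this.symm
  · have := h (sigma m) (by rwa [sigma_sigma])
    rw [show x = sigma (sigma x) from (sigma_sigma x).symm, ← map_inv, ← map_mul, ← map_mul,
      sigma_sigma] at this
    exact this.symm

theorem itA_le (i : ℕ) : itA i ≤ M1 := by
  cases i with
  | zero => exact le_rfl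
  | succ i => exact fun x hx => (mem_itA_succ.1 hx).1

theorem conj_mem_itA {i : ℕ} {m x : Ge} (hm : m ∈ M1) (hx : x ∈ itA i) :
    m * x * m⁻¹ ∈ itA i := by
  cases i with
  | zero => exact mul_mem (mul_mem hm hx) (inv_mem hm)
  | succ i =>
    rw [mem_itA_succ] at hx ⊢
    refine ⟨mul_mem (mul_mem hm hx.1) (inv_mem hm), fun n hn => ?_⟩
    rw [show n * (m * x * m⁻¹) * n⁻¹ = n * m * x * (n * m)⁻¹ by group]
    exact hx.2 _ (mul_mem hn hm)

theorem sigma_mem_of_succ {i : ℕ} {x : Ge} (hx : x ∈ itA (i + 1)) : sigma x ∈ itA i := by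
  simpa using ((mem_itA_succ.1 hx).2 1 (one_mem _)).2

theorem coe_sigma (x : Ge) :
    (sigma x : GL E8.Idx F2) = nR hW nd * (x : GL E8.Idx F2) * (nR hW nd)⁻¹ := rfl

theorem qGen_le_itA : ∀ (i : ℕ) (x : Ge), (x : GL E8.Idx F2) ∈ qGen (i + 1) → x ∈ itA i := by
  intro i
  induction i with
  | zero => exact fun x hx => mem_M1.2 (qGen_le_parab le_rfl hx)
  | succ i ih =>
    intro x hx
    rw [mem_itA_succ]
    refine ⟨mem_M1.2 (qGen_le_parab (by omega) hx), fun m hm => ?_⟩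
    have hq : ((m * x * m⁻¹ : Ge) : GL E8.Idx F2) ∈ qGen (i + 2) := by
      push_cast
      exact conj_mem_qGen (by omega) (mem_M1.1 hm) hx
    refine ⟨ih _ (qGen_mono (Nat.le_succ _) hq), ih _ ?_⟩
    rw [coe_sigma]
    exact nR_conj_qGen (by omega) hq

/-- The root element as an element of the group. -/
noncomputable def rootElt (r : Root E8) : Ge := ⟨X hW.good r 1, X_mem_group _ _ _⟩

theorem rootElt_reflect {i : ℕ} {r : Root E8} (h : rootElt r ∈ itA i) {j : Fin E8.rank}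
    (hj : j ∈ J) : rootElt (wPerm hW j r) ∈ itA i := by
  have hn : (⟨nR hW j, nR_mem_group hW j⟩ : Ge) ∈ M1 := mem_M1.2 (nR_mem_PJ hW hj)
  have := conj_mem_itA hn h
  convert this using 1
  exact Subtype.ext (nR_conj_one j r).symm

theorem rootElt_branch {i : ℕ} {r : Root E8} (h : rootElt r ∈ itA (i + 1)) :
    rootElt (wPerm hW nd r) ∈ itA i := by
  have := sigma_mem_of_succ h
  convert this using 1
  exact Subtype.ext (nR_conj_one nd r).symm

/-- `x` is the index of a root whose element lies in the `i`-th core. -/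
def InCore (i x : ℕ) : Prop := ∃ r : Root E8, (r : ℕ) = x ∧ rootElt r ∈ itA i

theorem inCore_walk {i : ℕ} : ∀ (L : List ℕ) (x : ℕ), (∀ j ∈ L, j < 8 ∧ j ≠ 3) →
    InCore i x → InCore i (walk x L) := by
  intro L
  induction L with
  | nil => exact fun x _ h => h
  | cons j L ih =>
    intro x hL h
    obtain ⟨hj, hj3⟩ := hL j List.mem_cons_self
    refine ih _ (fun k hk => hL k (List.mem_cons_of_mem _ hk)) ?_
    obtain ⟨r, rfl, hr⟩ := h
    have hj' : j < E8.rank := hj
    refine ⟨wPerm hW ⟨j, hj'⟩ r, ?_,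
      rootElt_reflect hr (mem_J.2 fun e => hj3 (congrArg Fin.val e))⟩
    rw [hW.wPerm_val, ← reflT_eq hW.good hj' r.isLt]

theorem inCore_branch {i x : ℕ} (h : InCore (i + 1) x) : InCore i (reflT chevE8 3 x) := by
  obtain ⟨r, rfl, hr⟩ := h
  refine ⟨wPerm hW nd r, ?_, rootElt_branch hr⟩
  rw [hW.wPerm_val, ← reflT_eq hW.good nd.isLt r.isLt]
  rfl

theorem inCore_segs : ∀ (L : List (List ℕ)) (i x : ℕ), (∀ l ∈ L, ∀ j ∈ l, j < 8 ∧ j ≠ 3) →
    InCore (i + L.length) x →
    InCore i (L.foldl (fun x l => reflT chevE8 3 (walk x l)) x) := by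
  intro L
  induction L with
  | nil => exact fun i x _ h => h
  | cons l L ih =>
    intro i x hL h
    refine ih i _ (fun k hk => hL k (List.mem_cons_of_mem _ hk)) ?_
    refine inCore_branch (i := i + L.length) (inCore_walk l x (hL l List.mem_cons_self) ?_)
    rwa [add_assoc]

theorem top_mem_of_normal {S : Subgroup Ge} (hS : S ≤ M1)
    (hnorm : ∀ m ∈ M1, ∀ x ∈ S, m * x * m⁻¹ ∈ S) (hne : S ≠ ⊥) : rootElt top ∈ S := by
  have hN0 : S.map (E8.group F2).subtype ≠ ⊥ := fun e => hne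
    ((Subgroup.map_eq_bot_iff_of_injective _ (Subgroup.subtype_injective _)).1 e)
  have hNP : S.map (E8.group F2).subtype ≤ parab := by
    intro y hy
    obtain ⟨x, hx, rfl⟩ := Subgroup.mem_map.1 hy
    exact mem_M1.1 (hS hx)
  have hn : ∀ m ∈ parab, ∀ y ∈ S.map (E8.group F2).subtype,
      m * y * m⁻¹ ∈ S.map (E8.group F2).subtype := by
    intro m hm y hy
    obtain ⟨x, hx, rfl⟩ := Subgroup.mem_map.1 hy
    have hmG : m ∈ E8.group F2 := PJ_le_group hW J hm
    let m' : Ge := ⟨m, hmG⟩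
    refine Subgroup.mem_map.2 ⟨m' * x * m'⁻¹, hnorm m' (mem_M1.2 hm) x hx, ?_⟩
    simp [m']
  obtain ⟨x, hx, hxe⟩ := Subgroup.mem_map.1 (top_mem hNP hn hN0)
  rwa [show rootElt top = x from Subtype.ext hxe.symm]

theorem itA_six : itA 6 = ⊥ := by
  by_contra hne
  have h6 : InCore 6 239 := ⟨top, rfl,
    top_mem_of_normal (itA_le 6) (fun m hm x hx => conj_mem_itA hm hx) hne⟩
  have h1 : InCore 1 (segs.foldl (fun x l => reflT chevE8 3 (walk x l)) 239) :=
    inCore_segs segs 1 239 (by decide) h6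
  obtain ⟨r, hr, hmem⟩ := inCore_walk lastSeg _ (by decide) h1
  have hpath : walk (segs.foldl (fun x l => reflT chevE8 3 (walk x l)) 239) lastSeg =
      chevE8.simple 3 := beq_iff_eq.1 chkPath_true
  rw [hpath] at hr
  have hr' : r = pRoot hW nd := Fin.ext hr
  subst hr'
  have h0 := mem_M1.1 (rootElt_branch hmem)
  rw [hW.wPerm_pRoot] at h0
  exact X_rev_nd_not_mem h0

theorem itA_five : itA 5 ≠ ⊥ := by
  intro e
  have hmem : rootElt top ∈ itA 5 := by
    refine qGen_le_itA 5 _ (X_mem_rootGen hW.good (S := qSet 6) ?_ 1)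
    show ((6 : ℕ) : ℤ) ≤ lev top
    rw [← (level_facts top).2.2.2]
    decide +kernel
  rw [e, Subgroup.mem_bot] at hmem
  have h1 : X hW.good top (1 : F2) = 1 := congrArg Subtype.val hmem
  rw [← X_zero hW.good top] at h1
  exact one_ne_zero (X_injective (F := F2) hW.good top h1)

theorem M1_ne_map : M1 ≠ M1.map sigma := by
  intro e
  have h : rootElt (pRoot hW nd) ∈ M1 :=
    mem_M1.2 (borel_le_PJ hW J (X_pRoot_mem_borel hW nd 1))
  rw [e, mem_map_sigma] at h
  have h1 := mem_M1.1 h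
  rw [coe_sigma] at h1
  have h2 : nR hW nd * X hW.good (pRoot hW nd) (1 : F2) * (nR hW nd)⁻¹ ∈ parab := h1
  rw [nR_conj_one, hW.wPerm_pRoot] at h2
  exact X_rev_nd_not_mem h2

theorem exists_example :
    ∃ (G : Type) (_ : Group G) (_ : Finite G) (M₁ M₂ : Subgroup G) (g : G)
      (A B : ℕ → Subgroup G),
      IsCoatom M₁ ∧ M₂ = M₁.map (MulAut.conj g).toMonoidHom ∧ M₁ ≠ M₂ ∧ M₁.normalCore = ⊥ ∧
      A 0 = M₁ ∧ B 0 = M₂ ∧
      (∀ i, A (i + 1) = ((A i ⊓ B i).subgroupOf M₁).normalCore.map M₁.subtype) ∧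
      (∀ i, B (i + 1) = ((A i ⊓ B i).subgroupOf M₂).normalCore.map M₂.subtype) ∧
      A 6 = ⊥ ∧ A 5 ≠ ⊥ :=
  ⟨Ge, inferInstance, inferInstance, M1, M1.map sigma, gE, itA,
    fun i => (itA i).map sigma, isCoatom_M1, rfl, M1_ne_map, normalCore_M1, rfl, rfl,
    fun _ => rfl, map_sigma_succ, itA_six, itA_five⟩

end CfsgLib.IterCore
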