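import Cfsg.Agent.IterCore.E8Checks
import Cfsg.Agent.IterCore.ClosedSet
import Cfsg.Agent.ChevUnip.Radical
import Cfsg.Agent.ChevSimple.Instances
import Cfsg.Agent.Chevalley.Parabolic
import Cfsg.Agent.Weyl.RootE8
/-!
The root groups of `E₈(2)` of a given level with respect to the branch node, and the normal
subgroups of the maximal parabolic subgroup they generate.
-/

set_option autoImplicit false

namespace CfsgLib.IterCore

open Cfsg.Lie CfsgLib.Chevalley CfsgLib.ChevUnip
open scoped MatrixGroups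

abbrev E8 : ChevalleyDatum := chevE8

abbrev F2 : Type := ZMod 2

theorem e8mem : E8 ∈ [chevG2, chevB2, chevD4, chevF4, chevE6, chevE7, chevE8] := by simp

theorem hW : GoodWeyl E8 := goodWeyl_of_mem e8mem

theorem hR : Weyl.RootGood (D := E8) Weyl.certE8 CoxeterMatrix.E₈ Weyl.reflTableE8 :=
  Weyl.rootE8_good

theorem half_eq : half E8 = 120 := rfl

theorem nroots_eq : E8.nroots = 240 := rfl

theorem rank_eq : E8.rank = 8 := rfl

/-- The branch node. -/
def nd : Fin E8.rank := ⟨3, by decide⟩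

/-- The other nodes. -/
def J : Finset (Fin E8.rank) := Finset.univ.erase nd

theorem mem_J {j : Fin E8.rank} : j ∈ J ↔ j ≠ nd := by simp [J]

/-- The level of a root: its coefficient at the branch node. -/
def lev (r : Root E8) : ℤ := ChevTorus.co E8 r nd

theorem levT_eq_sum (r : Root E8) :
    levT r = ∑ l : Fin E8.rank, cw.getD l 0 * E8.cartan l r := by
  have e : ((List.range 8).map fun l => cw.getD l 0 * cartanT chevE8 l r).sum =
      ∑ l : Fin 8, cw.getD (l : ℕ) 0 * cartanT chevE8 l r := by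
    rw [Fin.sum_univ_eq_sum_range (fun l => cw.getD l 0 * cartanT chevE8 l r) 8]
    rfl
  rw [levT, e]
  exact Finset.sum_congr rfl fun l _ => by rw [hW.good.cartanT_eq l.isLt r.isLt]

theorem level_facts (r : Root E8) :
    (120 ≤ (r : ℕ) → 0 ≤ levT r) ∧ levT r ≤ 6 ∧
      (2 ≤ levT r → levT r - 1 ≤ levT (wPerm hW nd r : Root E8)) ∧ levT r = lev r := by
  have h := List.all_eq_true.1 chkLevel_true r (List.mem_range.2 (nroots_eq ▸ r.isLt))
  simp only [Bool.and_eq_true, Bool.or_eq_true, decide_eq_true_eq] at h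
  obtain ⟨⟨⟨h1, h2⟩, h3⟩, h4⟩ := h
  refine ⟨fun h0 => h1.resolve_left (by omega), h2, fun h0 => ?_, ?_⟩
  · have := h3.resolve_left (by omega)
    rwa [hW.wPerm_val, ← reflT_eq hW.good nd.isLt r.isLt]
  · rw [h4, lev, ChevTorus.co, coT_eq]
    rfl

theorem lev_eq_sum (r : Root E8) : lev r = ∑ l : Fin E8.rank, cw.getD l 0 * E8.cartan l r :=
  (level_facts r).2.2.2 ▸ levT_eq_sum r

theorem lev_nonneg {r : Root E8} (hr : half E8 ≤ (r : ℕ)) : 0 ≤ lev r :=
  (level_facts r).2.2.2 ▸ (level_facts r).1 (half_eq ▸ hr)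

theorem pos_of_lev {r : Root E8} (hr : 0 < lev r) : half E8 ≤ (r : ℕ) := by
  by_contra hn
  have := ((ChevTorus.co_sign_iff hW.good r).2.1 (by omega)) nd
  rw [lev] at hr
  omega

theorem lev_le (r : Root E8) : lev r ≤ 6 := (level_facts r).2.2.2 ▸ (level_facts r).2.1

theorem lev_shift {r : Root E8} (hr : 2 ≤ lev r) : lev r - 1 ≤ lev (wPerm hW nd r) := by
  have h := (level_facts r).2.2.1 ((level_facts r).2.2.2.symm ▸ hr)
  rwa [(level_facts r).2.2.2, (level_facts _).2.2.2] at h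

theorem lev_wPerm {j : Fin E8.rank} (hj : j ∈ J) (r : Root E8) :
    lev (wPerm hW j r) = lev r := by
  rw [lev, lev, ChevTorus.co_wPerm hW, if_neg (mem_J.1 hj), sub_zero]

theorem lev_add {r s : Root E8} (hr : half E8 ≤ (r : ℕ)) (hs : half E8 ≤ (s : ℕ))
    {c : ℕ × ℤ × ℕ × ℕ} (hc : c ∈ E8.commTerms r s) :
    ∃ h : c.1 < E8.nroots, lev r ≤ lev (⟨c.1, h⟩ : Root E8) := by
  obtain ⟨h, i, j, hi, -, e⟩ := Good.commTerms_cartan (b := false) hW.toGoodComm hr hs hc
  refine ⟨h, ?_⟩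
  have : lev (⟨c.1, h⟩ : Root E8) = i * lev r + j * lev s := by
    simp only [lev_eq_sum, Finset.mul_sum, ← Finset.sum_add_distrib]
    exact Finset.sum_congr rfl fun l _ => by rw [e l]; ring
  rw [this]
  have h1 : (1 : ℤ) ≤ i := by exact_mod_cast hi
  nlinarith [lev_nonneg hr, lev_nonneg hs]

/-- The roots of level at least `k`. -/
def qSet (k : ℕ) : Set (Root E8) := {r | (k : ℤ) ≤ lev r}

/-- The subgroup generated by the root groups of level at least `k`. -/
noncomputable def qGen (k : ℕ) : Subgroup (GL E8.Idx F2) := rootGen hW.good F2 (qSet k)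

/-- The maximal parabolic subgroup. -/
noncomputable def parab : Subgroup (GL E8.Idx F2) := PJ hW F2 J

theorem unit_eq_one (u : F2ˣ) : u = 1 := by
  revert u; decide

theorem diag_eq_bot : E8.diagonalSubgroup F2 = ⊥ := by
  rw [eq_bot_iff]
  intro g hg
  rw [diagonalSubgroup_eq_range hW] at hg
  obtain ⟨c, rfl⟩ := hg
  refine Subgroup.mem_bot.2 (Units.ext ?_)
  show ((torC E8 c : GL E8.Idx F2) : Matrix E8.Idx E8.Idx F2) = 1
  rw [ChevSimple.torC_apply, ← Matrix.diagonal_one]
  exact congrArg Matrix.diagonal (funext fun a => by rw [unit_eq_one (ChevSimple.chiIdx c a)]; rfl)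

theorem borel_eq : E8.borelSubgroup F2 = E8.posUnipotent F2 := by
  rw [ChevalleyDatum.borelSubgroup, diag_eq_bot, sup_bot_eq]

theorem qGen_le_pos {k : ℕ} (hk : 1 ≤ k) : qGen k ≤ E8.posUnipotent F2 := by
  rw [posUnipotent_eq_rootGen hW.good]
  refine rootGen_mono hW.good fun r hr => pos_of_lev ?_
  have : (k : ℤ) ≤ lev r := hr
  omega

theorem qGen_le_parab {k : ℕ} (hk : 1 ≤ k) : qGen k ≤ parab :=
  ((qGen_le_pos hk).trans (pos_le_borel _)).trans (borel_le_PJ hW J)

theorem qGen_mono {k l : ℕ} (h : k ≤ l) : qGen l ≤ qGen k :=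
  rootGen_mono hW.good fun r hr => by
    have : (l : ℤ) ≤ lev r := hr
    show (k : ℤ) ≤ lev r
    omega

theorem X_conj_qGen {k : ℕ} (hk : 1 ≤ k) {a : Root E8} (ha : half E8 ≤ (a : ℕ)) (v : F2)
    {g : GL E8.Idx F2} (hg : g ∈ qGen k) :
    X hW.good a v * g * (X hW.good a v)⁻¹ ∈ qGen k := by
  refine X_conj_closedSet hW (fun r hr => pos_of_lev ?_) (fun c hc e he => ?_) ha v hg
  · have : (k : ℤ) ≤ lev r := hr
    omega
  · have hck : (k : ℤ) ≤ lev c := hc
    obtain ⟨h, h1⟩ := lev_add (pos_of_lev (by omega)) ha he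
    exact ⟨h, show (k : ℤ) ≤ _ from hck.trans h1⟩

theorem parab_le_normalizer {k : ℕ} (hk : 1 ≤ k) :
    parab ≤ Subgroup.normalizer (qGen k : Set (GL E8.Idx F2)) := by
  rw [parab, PJ, borel_eq]
  refine sup_le ?_ ((Subgroup.closure_le _).2 ?_)
  · rw [posUnipotent_eq_rootGen hW.good]
    refine rootGen_le hW.good fun a ha v => ?_
    refine mem_normalizer_of_conj (fun u hu => X_conj_qGen hk ha v hu) fun u hu => ?_
    have := X_conj_qGen hk ha (-v) hu
    rwa [← X_inv, inv_inv] at this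
  · rintro _ ⟨j, hj, rfl⟩
    refine mem_normalizer_of_conj (fun u hu => ?_) fun u hu => ?_
    · exact (monBy_nR hW j).conj_rootGen (T := qSet k)
        (fun r hr => show (k : ℤ) ≤ _ by rw [lev_wPerm hj]; exact hr) hu
    · have := (monBy_nR (F := F2) hW j).inv.conj_rootGen (T := qSet k) (S := qSet k)
        (fun r hr => show (k : ℤ) ≤ _ by
          have e := lev_wPerm hj ((wPerm hW j)⁻¹ r)
          rw [show wPerm hW j ((wPerm hW j)⁻¹ r) = r from (wPerm hW j).apply_symm_apply r] at e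
          rw [← e]; exact hr) hu
      rwa [inv_inv] at this

theorem conj_mem_qGen {k : ℕ} (hk : 1 ≤ k) {m u : GL E8.Idx F2} (hm : m ∈ parab)
    (hu : u ∈ qGen k) : m * u * m⁻¹ ∈ qGen k :=
  (Subgroup.mem_normalizer_iff.1 (parab_le_normalizer hk hm) u).1 hu

/-- The reflection at the branch node lowers the level by one at most. -/
theorem nR_conj_qGen {k : ℕ} (hk : 1 ≤ k) {u : GL E8.Idx F2} (hu : u ∈ qGen (k + 1)) :
    nR hW nd * u * (nR hW nd)⁻¹ ∈ qGen k := by
  refine (monBy_nR hW nd).conj_rootGen (T := qSet k) (fun r hr => ?_) hu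
  have h1 : ((k + 1 : ℕ) : ℤ) ≤ lev r := hr
  have h2 := lev_shift (r := r) (by omega)
  show (k : ℤ) ≤ _
  omega

end CfsgLib.IterCore
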