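import Cfsg.Agent.Chevalley.Borel
/-!
Raising the leading root of an element of the positive unipotent subgroup by a commutator with a
root element.
-/

set_option autoImplicit false

namespace CfsgLib.IterCore

open Cfsg.Lie CfsgLib.Chevalley
open scoped MatrixGroups

variable {D : ChevalleyDatum} {F : Type*} [Field F]

theorem X_not_mem_uGe_succ (hU : GoodUni D) {r : Root D} (hr : half D ≤ (r : ℕ)) {t : F}
    (ht : t ≠ 0) : X hU.good r t ∉ uGe hU.good F false ((r : ℕ) + 1) := by
  intro hm
  obtain ⟨i, hi⟩ := hU.exists_coroot_ne F r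
  have h1 := entry_X_mul (b := false) hU.good (r := r) (by simpa [key] using hr) (-t)
    (g := X hU.good r t) (by simpa [key] using hm) i
  rw [X_mul, neg_add_cancel, X_zero] at h1
  simp only [Units.val_one, Matrix.one_apply, reduceCtorEq, if_false] at h1
  exact mul_ne_zero (neg_ne_zero.2 ht) hi h1.symm

theorem commTerms_short {r a : ℕ} (h1 : (D.chainEntry r a).length ≤ 1)
    (h2 : (D.chainEntry a r).length ≤ 1) :
    D.commTerms r a = (D.chainEntry r a).map fun q => (q.1, q.2, 1, 1) := by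
  rcases e1 : D.chainEntry r a with _ | ⟨q, _ | ⟨q', L⟩⟩
  · rcases e2 : D.chainEntry a r with _ | ⟨p, _ | ⟨p', L'⟩⟩
    · simp [ChevalleyDatum.commTerms, ChevalleyDatum.chainRoot, e1, e2]
    · simp [ChevalleyDatum.commTerms, ChevalleyDatum.chainRoot, e1, e2]
    · simp [e2] at h2
  · rcases e2 : D.chainEntry a r with _ | ⟨p, _ | ⟨p', L'⟩⟩
    · simp [ChevalleyDatum.commTerms, ChevalleyDatum.chainRoot, ChevalleyDatum.chainM, e1, e2]
    · simp [ChevalleyDatum.commTerms, ChevalleyDatum.chainRoot, ChevalleyDatum.chainM, e1, e2]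
    · simp [e2] at h2
  · simp [e1] at h1

theorem commutator_X (hC : GoodComm D) {s a : Root D} (hs : half D ≤ (s : ℕ))
    (ha : half D ≤ (a : ℕ)) (hne : a ≠ s) (t v : F) :
    X hC.good a v * X hC.good s t * (X hC.good a v)⁻¹ * (X hC.good s t)⁻¹ =
      X hC.good s t * (X hC.good a v * commRhs hC.good s a t v * (X hC.good a v)⁻¹) *
        (X hC.good s t)⁻¹ := by
  rw [X_comm hC s a hne (hC.good.rev_ne_of_key (b := false) hs ha) t v]
  group

theorem mem_normalizer_uGe (hC : GoodComm D) {g : GL D.Idx F} {n m : ℕ} (hn : half D ≤ n)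
    (hg : g ∈ uGe hC.good F false n) {u : GL D.Idx F} :
    u ∈ uGe hC.good F false m ↔ g * u * g⁻¹ ∈ uGe hC.good F false m :=
  Subgroup.mem_normalizer_iff.1
    (uGe_half_le_normalizer hC m (uGe_mono hC.good hn hg)) u

/-- The commutator of an element with leading root `r` and a root element raises the leading
root to `p`. -/
theorem leading_commutator (hU : GoodUni D) {r a p : Root D} (hr : half D ≤ (r : ℕ))
    (ha : half D ≤ (a : ℕ)) (hne : a ≠ r) {c : ℤ} (hc : c.natAbs = 1)
    (hrp : D.commTerms r a = [((p : ℕ), c, 1, 1)])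
    (hup : ∀ s : Root D, (r : ℕ) < s → ∀ e ∈ D.commTerms s a, (p : ℕ) < e.1)
    {u : GL D.Idx F} (hu : u ∈ uGe hU.good F false ((r : ℕ) + 1)) :
    X hU.good a 1 * (X hU.good r 1 * u) * (X hU.good a 1)⁻¹ * (X hU.good r 1 * u)⁻¹ ∈
        uGe hU.good F false ((r : ℕ) + 1) ∧
      X hU.good a (1 : F) * (X hU.good r 1 * u) * (X hU.good a 1)⁻¹ * (X hU.good r 1 * u)⁻¹ ≠
        1 := by
  have hC : GoodComm D := hU.toGoodComm
  set A : GL D.Idx F := X hU.good a 1
  set R : GL D.Idx F := X hU.good r 1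
  have hA : A ∈ uGe hU.good F false (half D) :=
    X_mem_uGe hU.good (by simpa [key] using ha) (by simpa [key] using ha) _
  have hR : R ∈ uGe hU.good F false (half D) :=
    X_mem_uGe hU.good (by simpa [key] using hr) (by simpa [key] using hr) _
  obtain ⟨hpl, hp1, -⟩ := Good.commTerms_key (b := false) (r := r) (s := a) hC
    (by simpa [key] using hr) (by simpa [key] using ha)
    (show ((p : ℕ), c, 1, 1) ∈ D.commTerms r a by rw [hrp]; exact List.mem_cons_self)
  simp only [key, Bool.false_eq_true, if_false] at hp1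
  have hcu : A * u * A⁻¹ * u⁻¹ ∈ uGe hU.good F false ((p : ℕ) + 1) := by
    induction hu using Subgroup.closure_induction with
    | mem x hx =>
      obtain ⟨s, hs, hsm, w, rfl⟩ := hx
      simp only [key, Bool.false_eq_true, if_false] at hs hsm
      rcases eq_or_ne a s with rfl | hsa
      · rw [show A * X hU.good a w * A⁻¹ * (X hU.good a w)⁻¹ = 1 by
          simp only [A, X_inv, X_mul]
          rw [show (1 : F) + w + -1 + -w = 0 by ring, X_zero]]
        exact one_mem _
      rw [commutator_X hC hs ha hsa]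
      refine (mem_normalizer_uGe hC le_rfl
        (X_mem_uGe hU.good (by simpa [key] using hs) (by simpa [key] using hs) _)).1
        ((mem_normalizer_uGe hC le_rfl hA).1 ?_)
      refine Subgroup.list_prod_mem _ fun y hy => ?_
      simp only [List.map_map, List.mem_map] at hy
      obtain ⟨e, he, rfl⟩ := hy
      obtain ⟨hlt, h1, -⟩ := Good.commTerms_key (b := false) (r := s) (s := a) hC
        (by simpa [key] using hs) (by simpa [key] using ha) he
      have := hup s (by omega) e he
      simp only [key, Bool.false_eq_true, if_false] at h1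
      simp only [Function.comp_apply, dif_pos hlt]
      exact X_mem_uGe _ (by simp only [key, Bool.false_eq_true, if_false]; omega)
        (by simp only [key, Bool.false_eq_true, if_false]; omega) _
    | one => simp
    | mul x y hx _ ihx ihy =>
      have hxU : x ∈ uGe hU.good F false ((r : ℕ) + 1) := hx
      rw [show A * (x * y) * A⁻¹ * (x * y)⁻¹ =
        A * x * A⁻¹ * x⁻¹ * (x * (A * y * A⁻¹ * y⁻¹) * x⁻¹) by group]
      exact mul_mem ihx ((mem_normalizer_uGe hC (Nat.le_succ_of_le hr) hxU).1 ihy)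
    | inv x hx ihx =>
      have hxU : x ∈ uGe hU.good F false ((r : ℕ) + 1) := hx
      rw [show A * x⁻¹ * A⁻¹ * x⁻¹⁻¹ = x⁻¹ * (A * x * A⁻¹ * x⁻¹)⁻¹ * x⁻¹⁻¹ by group]
      exact (mem_normalizer_uGe hC (Nat.le_succ_of_le hr) (inv_mem hxU)).1 (inv_mem ihx)
  have hcr : A * R * A⁻¹ * R⁻¹ =
      R * (A * X hU.good p ((c : F) * -1) * A⁻¹) * R⁻¹ := by
    rw [commutator_X hC hr ha hne]
    simp only [commRhs, hrp, wordGL, List.map_cons, List.map_nil, List.prod_cons, List.prod_nil,
      mul_one, pow_one, dif_pos p.isLt]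
    rfl
  have hXp : X hU.good p ((c : F) * -1) ∈ uGe hU.good F false ((r : ℕ) + 1) :=
    X_mem_uGe _ (by simp only [key, Bool.false_eq_true, if_false]; omega)
      (by simp only [key, Bool.false_eq_true, if_false]; omega) _
  have e : A * (R * u) * A⁻¹ * (R * u)⁻¹ =
      A * R * A⁻¹ * R⁻¹ * (R * (A * u * A⁻¹ * u⁻¹) * R⁻¹) := by group
  have hRu : R * (A * u * A⁻¹ * u⁻¹) * R⁻¹ ∈ uGe hU.good F false ((p : ℕ) + 1) :=
    (mem_normalizer_uGe hC le_rfl hR).1 hcu
  refine ⟨?_, fun h1 => ?_⟩
  · rw [e, hcr]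
    exact mul_mem ((mem_normalizer_uGe hC le_rfl hR).1 ((mem_normalizer_uGe hC le_rfl hA).1 hXp))
      (uGe_mono hU.good (by omega) hRu)
  · rw [e, hcr] at h1
    have h2 : R * (A * X hU.good p ((c : F) * -1) * A⁻¹) * R⁻¹ ∈
        uGe hU.good F false ((p : ℕ) + 1) := by
      rw [eq_inv_of_mul_eq_one_left h1]
      exact inv_mem hRu
    refine X_not_mem_uGe_succ hU (by omega) ?_
      ((mem_normalizer_uGe hC le_rfl hA).2 ((mem_normalizer_uGe hC le_rfl hR).2 h2))
    rcases Int.natAbs_eq c with h | h <;> rw [hc] at h <;> simp [h]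

end CfsgLib.IterCore
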