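import Cfsg.Agent.IterCore.E8Levels
import Cfsg.Agent.IterCore.LeadingRoot
import Cfsg.Agent.Chevalley.BNPair
import Cfsg.Agent.BNPairs.Parabolic
/-!
The maximal parabolic subgroup of `E₈(2)` at the branch node: maximality, and the highest root
element lies in each of its nontrivial normal subgroups.
-/

set_option autoImplicit false

namespace CfsgLib.IterCore

open Cfsg.Lie CfsgLib.Chevalley CfsgLib.ChevUnip
open scoped MatrixGroups Pointwise

set_option maxRecDepth 20000

/-- The finite group `E₈(2)`. -/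
abbrev Ge : Type := ↥(E8.group F2)

/-- The parabolic subgroup inside `E₈(2)`. -/
noncomputable def M1 : Subgroup Ge := parab.subgroupOf (E8.group F2)

theorem mem_M1 {x : Ge} : x ∈ M1 ↔ (x : GL E8.Idx F2) ∈ parab := Subgroup.mem_subgroupOf

/-- The reflection representative at the branch node. -/
noncomputable def gE : Ge := ⟨nR hW nd, nR_mem_group hW nd⟩

theorem gE_mul_self : gE * gE = 1 := by
  refine Subtype.ext ?_
  have := nR_mul_self_mem_diag (F := F2) hW nd
  rw [diag_eq_bot, Subgroup.mem_bot] at this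
  exact this

theorem gE_inv : gE⁻¹ = gE := inv_eq_of_mul_eq_one_right gE_mul_self

theorem eta_smul (j : Fin E8.rank) (r : Root E8) (t : F2) : (eta E8 j r : F2) * t = t := by
  have h : (eta E8 j r : F2) * eta E8 j r = 1 := by
    rw [← Int.cast_mul, hW.eta_sq, Int.cast_one]
  have key : ∀ z t : F2, z * z = 1 → z * t = t := by decide
  exact key _ _ h

theorem nR_conj_one (j : Fin E8.rank) (r : Root E8) :
    nR hW j * X hW.good r (1 : F2) * (nR hW j)⁻¹ = X hW.good (wPerm hW j r) 1 := by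
  rw [nR_conj, eta_smul]

theorem nR_nd_not_mem : (nR hW nd : GL E8.Idx F2) ∉ parab := by
  intro hm
  obtain ⟨w, hw, hcell⟩ := exists_cell_of_mem_PJ hW hR hm
  have e := cell_eq_of_mem hW hR (nR_mem_cell hW hR nd) hcell
  rw [← e] at hw
  have h1 := corootAt_apply hR (k := nd) (J := J) (by simp [J]) hw (pRoot hW nd)
  rw [← wPerm_eq_rootPerm hW hR, hW.wPerm_pRoot] at h1
  have h2 : ChevTorus.co E8 (pRoot hW nd).rev nd = ChevTorus.co E8 (pRoot hW nd) nd := h1
  rw [co_rev hW, ChevTorus.co_pRoot hW, if_pos rfl] at h2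
  norm_num at h2

theorem X_rev_nd_not_mem : X hW.good (pRoot hW nd).rev (1 : F2) ∉ parab := by
  intro hm
  refine nR_nd_not_mem ?_
  rw [nR, show (-1 : F2) = 1 from rfl]
  exact mul_mem (mul_mem (borel_le_PJ hW J (X_pRoot_mem_borel hW nd 1)) hm)
    (borel_le_PJ hW J (X_pRoot_mem_borel hW nd 1))

theorem coe_gE : ((gE : Ge) : GL E8.Idx F2) = nR hW nd := rfl

theorem gE_not_mem : gE ∉ M1 := by
  intro h
  have h1 := mem_M1.1 h
  rw [coe_gE] at h1
  exact nR_nd_not_mem h1

theorem isCoatom_M1 : IsCoatom M1 := by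
  refine ⟨fun e => gE_not_mem (e ▸ Subgroup.mem_top _), fun H hH => ?_⟩
  obtain ⟨P, hB, -, hS⟩ := exists_bnPair (F := F2) hW hR
  have hBM : P.B ≤ M1 := by
    rw [hB]
    exact Subgroup.comap_mono (borel_le_PJ hW J)
  have hBH : P.B ≤ H := hBM.trans hH.le
  have hmem : ∀ s ∈ P.S, ∃ i : Fin E8.rank, s = nG hW F2 i := fun s hs =>
    (eq_nG_iff hW).1 (by rw [hS] at hs; exact hs)
  have hall : P.S ⊆ (H : Set Ge) := by
    by_contra hne
    obtain ⟨s, hs, hsH⟩ := Set.not_subset.1 hne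
    obtain ⟨i, rfl⟩ := hmem s hs
    have hi : i = nd := by
      by_contra hi
      exact hsH (hH.le (mem_M1.2 (nR_mem_PJ hW (mem_J.2 hi))))
    subst hi
    refine not_le_of_gt hH ?_
    rw [BNPairs.eq_parabolic hBH]
    refine sup_le hBM ((Subgroup.closure_le _).2 ?_)
    rintro t ⟨ht, htH⟩
    obtain ⟨j, rfl⟩ := hmem t ht
    refine mem_M1.2 (nR_mem_PJ hW (mem_J.2 fun e => ?_))
    subst e
    exact hsH htH
  rw [eq_top_iff, ← BNPairs.parabolic_S_eq_top (P := P)]
  exact sup_le hBH ((Subgroup.closure_le _).2 hall)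

theorem normalCore_M1 : M1.normalCore = ⊥ := by
  have hs := (ChevSimple.isSimple_of_mem (F := F2) e8mem
    (ChevSimple.perfect_of_mem_big (by simp)) (exists_bnPair hW hR)).1
  refine ((Subgroup.normalCore_normal M1).eq_bot_or_eq_top).resolve_right fun e => ?_
  exact gE_not_mem (Subgroup.normalCore_le M1 (e ▸ Subgroup.mem_top _))

theorem low_root (j : Fin E8.rank) (hj : j ∈ J) :
    ∃ r : Root E8, 1 ≤ lev r ∧ (wPerm hW j r : ℕ) < r := by
  have h := List.all_eq_true.1 chkLow_true (j : ℕ) (List.mem_range.2 (rank_eq ▸ j.isLt))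
  simp only [Bool.or_eq_true, beq_iff_eq, Bool.and_eq_true, decide_eq_true_eq] at h
  obtain ⟨⟨h1, h2⟩, h3⟩ := h.resolve_left fun e => mem_J.1 hj (Fin.ext e)
  have h2' : lowRoot.getD (j : ℕ) 0 < E8.nroots := by rw [nroots_eq]; exact h2
  refine ⟨⟨_, h2'⟩, ?_, ?_⟩
  · rw [← (level_facts _).2.2.2]
    exact h1
  rw [hW.wPerm_val, ← reflT_eq hW.good j.isLt h2']
  exact h3

variable {N : Subgroup (GL E8.Idx F2)}

theorem exists_pos_mem (hNP : N ≤ parab)
    (hnorm : ∀ m ∈ parab, ∀ x ∈ N, m * x * m⁻¹ ∈ N) (hN : N ≠ ⊥) :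
    N ⊓ E8.posUnipotent F2 ≠ ⊥ := by
  intro hbot
  obtain ⟨P, hB, -, hS⟩ := exists_bnPair (F := F2) hW hR
  have hle : E8.posUnipotent F2 ≤ Subgroup.normalizer (N : Set (GL E8.Idx F2)) := by
    intro u hu
    have hu' : u ∈ parab := borel_le_PJ hW J (pos_le_borel _ hu)
    refine Subgroup.mem_normalizer_iff.2 fun x => ⟨hnorm u hu' x, fun hx => ?_⟩
    have := hnorm u⁻¹ (inv_mem hu') _ hx
    rwa [show u⁻¹ * (u * x * u⁻¹) * u⁻¹⁻¹ = x by group] at this
  have hKP : N ⊔ E8.posUnipotent F2 ≤ parab :=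
    sup_le hNP ((pos_le_borel _).trans (borel_le_PJ hW J))
  set K := (N ⊔ E8.posUnipotent F2).subgroupOf (E8.group F2) with hK
  have hBK : P.B ≤ K := by
    rw [hB, borel_eq]
    exact Subgroup.comap_mono le_sup_right
  by_cases hemp : ∃ j ∈ J, (nR hW j : GL E8.Idx F2) ∈ N ⊔ E8.posUnipotent F2
  · obtain ⟨j, hj, hm⟩ := hemp
    have hm' : (nR hW j : GL E8.Idx F2) ∈
        (N : Set (GL E8.Idx F2)) * (E8.posUnipotent F2 : Set (GL E8.Idx F2)) := by
      rw [← Subgroup.coe_mul_of_right_le_normalizer_left _ _ hle]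
      exact hm
    obtain ⟨n, hn, u, hu, e⟩ := Set.mem_mul.1 hm'
    obtain ⟨r, hr, hlt⟩ := low_root j hj
    set r' := wPerm hW j r with hr'
    have hq : X hW.good r (1 : F2) ∈ qGen 1 :=
      X_mem_rootGen hW.good (S := qSet 1) (by exact_mod_cast hr) 1
    have hc : n * X hW.good r 1 * n⁻¹ * (X hW.good r 1)⁻¹ = 1 := by
      rw [← Subgroup.mem_bot, ← hbot]
      refine ⟨?_, qGen_le_pos le_rfl
        (mul_mem (conj_mem_qGen le_rfl (hNP hn) hq) (inv_mem hq))⟩
      rw [show n * X hW.good r 1 * n⁻¹ * (X hW.good r 1)⁻¹ =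
        n * (X hW.good r 1 * n⁻¹ * (X hW.good r 1)⁻¹) by group]
      exact mul_mem hn (hnorm _ (qGen_le_parab le_rfl hq) _ (inv_mem hn))
    have hcomm : n⁻¹ * X hW.good r 1 * n = X hW.good r 1 := by
      have hc' : n * X hW.good r 1 * n⁻¹ = X hW.good r 1 := mul_inv_eq_one.1 hc
      calc n⁻¹ * X hW.good r 1 * n = n⁻¹ * (n * X hW.good r 1 * n⁻¹) * n := by rw [hc']
        _ = X hW.good r 1 := by group
    have h1 : u * X hW.good r' 1 * u⁻¹ = X hW.good r 1 := by
      have h2 := nR_conj_one j r'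
      rw [hr', hW.wPerm_wPerm] at h2
      rw [← e] at h2
      calc u * X hW.good r' 1 * u⁻¹ =
            n⁻¹ * (n * u * X hW.good r' 1 * (n * u)⁻¹) * n := by group
        _ = n⁻¹ * X hW.good r 1 * n := by rw [h2]
        _ = X hW.good r 1 := hcomm
    have hpos : ∀ s : Root E8, (1 : ℤ) ≤ lev s → half E8 ≤ (s : ℕ) := fun s hs =>
      pos_of_lev (by omega)
    have hr'pos : half E8 ≤ (r' : ℕ) := hpos r' (by rw [hr', lev_wPerm hj]; exact hr)
    have hXr : X hW.good r (1 : F2) ∈ uGe hW.good F2 false ((r' : ℕ) + 1) :=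
      X_mem_uGe _ (by simpa [key] using hpos r hr)
        (by simp only [key, Bool.false_eq_true, if_false]; omega) _
    rw [posUnipotent_eq hW.good] at hu
    rw [← h1] at hXr
    exact X_not_mem_uGe_succ hW.toGoodUni hr'pos one_ne_zero
      ((mem_normalizer_uGe hW.toGoodComm le_rfl hu).2 hXr)
  · push Not at hemp
    refine hN ?_
    rw [eq_bot_iff, ← hbot]
    intro x hx
    refine ⟨hx, ?_⟩
    have hxG : x ∈ E8.group F2 := PJ_le_group hW J (hNP hx)
    have hxK : (⟨x, hxG⟩ : Ge) ∈ K := Subgroup.mem_sup_left hx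
    rw [BNPairs.eq_parabolic hBK] at hxK
    have : P.parabolic (P.S ∩ (K : Set Ge)) ≤ P.B := by
      refine sup_le le_rfl ((Subgroup.closure_le _).2 ?_)
      rintro t ⟨ht, htK⟩
      rw [hS] at ht
      obtain ⟨j, rfl⟩ := (eq_nG_iff hW).1 ht
      have hj : j ∈ J := mem_J.2 fun e => nR_nd_not_mem (hKP (by subst e; exact htK))
      exact absurd htK (hemp j hj)
    have h3 := this hxK
    rw [hB, borel_eq] at h3
    exact h3

theorem up_root {r : Root E8} (h1 : half E8 ≤ (r : ℕ)) (h2 : (r : ℕ) < 239) :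
    ∃ (a p : Root E8) (c : ℤ), half E8 ≤ (a : ℕ) ∧ a ≠ r ∧ c.natAbs = 1 ∧
      E8.commTerms r a = [((p : ℕ), c, 1, 1)] ∧
      ∀ s : Root E8, (r : ℕ) < s → ∀ e ∈ E8.commTerms s a, (p : ℕ) < e.1 := by
  rw [half_eq] at h1
  have h := List.all_eq_true.1 chkUp_true (r : ℕ) (List.mem_range'_1.2 ⟨h1, by omega⟩)
  simp only [chkUpRoot, Bool.and_eq_true, decide_eq_true_eq] at h
  obtain ⟨⟨⟨hj, hlen⟩, hm⟩, hall⟩ := h
  set j : Fin E8.rank := ⟨upIdx r, rank_eq ▸ hj⟩
  set a : Root E8 := pRoot hW j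
  rw [entryT_eq] at hlen
  split at hm
  · rename_i q c heq
    rw [beq_iff_eq] at hm
    rw [entryT_eq] at heq
    have hq : q < E8.nroots :=
      (hW.good.chainEntry_mem r.isLt (show (q, c) ∈ E8.chainEntry r a by
        rw [show E8.chainEntry r a = [(q, c)] from heq]; exact List.mem_cons_self)).2.2.2.1
    refine ⟨a, ⟨q, hq⟩, c, pRoot_pos hW j, fun e => ?_, hm, ?_, fun s hs e he => ?_⟩
    · rw [show E8.simple (upIdx r) = ((r : Root E8) : ℕ) from congrArg Fin.val e,
        hW.good.chainEntry_self r.isLt] at heq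
      simp at heq
    · have heq' : E8.chainEntry r a = [(q, c)] := heq
      have hlen' : (E8.chainEntry a r).length ≤ 1 := hlen
      rw [commTerms_short (by rw [heq']; simp) hlen', heq']
      rfl
    · have hs2 : (s : ℕ) < 240 := nroots_eq ▸ s.isLt
      have h3 := List.all_eq_true.1 hall (s : ℕ)
        (List.mem_range'_1.2 ⟨by omega, by omega⟩)
      simp only [Bool.and_eq_true, decide_eq_true_eq, List.all_eq_true] at h3
      obtain ⟨⟨h4, h5⟩, h6⟩ := h3
      simp only [entryT_eq] at h4 h5 h6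
      have h4' : (E8.chainEntry a s).length ≤ 1 := h4
      have h5' : (E8.chainEntry s a).length ≤ 1 := h5
      rw [commTerms_short h5' h4'] at he
      obtain ⟨e', he', rfl⟩ := List.mem_map.1 he
      have := h6 e' he'
      rw [show E8.chainEntry r (E8.simple (upIdx r)) = [(q, c)] from heq] at this
      exact this
  · simp at hm

/-- The highest root. -/
def top : Root E8 := ⟨239, by decide⟩

theorem top_mem_of_uGe (hnorm : ∀ m ∈ parab, ∀ x ∈ N, m * x * m⁻¹ ∈ N) :
    ∀ k m, half E8 ≤ m → m + k = E8.nroots → ∀ u ∈ N, u ∈ uGe hW.good F2 false m → u ≠ 1 →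
      X hW.good top 1 ∈ N := by
  intro k
  induction k with
  | zero =>
    intro m _ hm u _ hu hne
    rw [uGe_eq_bot hW.good (by omega), Subgroup.mem_bot] at hu
    exact absurd hu hne
  | succ k ih =>
    intro m hm hmk u hN hu hne
    obtain ⟨t, ht⟩ := exists_prodFrom hW.toGoodComm (k + 1) m hm hmk u hu
    rw [prodFrom_succ] at ht
    set r := rootOf hW.good false m
    have hkey : (r : ℕ) = m := key_rootOf (b := false) hW.good (by omega)
    set u' := prodFrom hW.good false t (m + 1) k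
    have hu' : u' ∈ uGe hW.good F2 false (m + 1) := prodFrom_mem hW.good t (by omega) (by omega)
    obtain h0 | h1 : t m = 0 ∨ t m = 1 := by generalize t m = z; revert z; decide
    · rw [h0, X_zero, one_mul] at ht
      exact ih (m + 1) (by omega) (by omega) u hN (ht ▸ hu') hne
    · rw [h1] at ht
      by_cases hlast : m = 239
      · rw [uGe_eq_bot hW.good (by rw [hlast, nroots_eq]), Subgroup.mem_bot] at hu'
        rw [hu', mul_one] at ht
        have : r = top := Fin.ext (hkey.trans hlast)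
        rw [← this]
        exact (show X hW.good r (1 : F2) = u from ht) ▸ hN
      · have hmn := nroots_eq
        obtain ⟨a, p, c, ha, hne', hc, hrp, hup⟩ :=
          up_root (r := r) (hkey.symm ▸ hm) (by omega)
        obtain ⟨hmem, hne''⟩ := leading_commutator hW.toGoodUni (F := F2)
          (hkey.symm ▸ hm : half E8 ≤ (r : ℕ)) ha hne' hc hrp hup (hkey.symm ▸ hu')
        have ht' : X hW.good r 1 * u' = u := ht
        rw [ht'] at hmem hne''
        rw [hkey] at hmem
        refine ih (m + 1) (by omega) (by omega) _ ?_ hmem hne''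
        exact mul_mem (hnorm _ (borel_le_PJ hW J (pos_le_borel _
          (X_mem_pos hW.good ha 1))) _ hN) (inv_mem hN)

theorem top_mem (hNP : N ≤ parab)
    (hnorm : ∀ m ∈ parab, ∀ x ∈ N, m * x * m⁻¹ ∈ N) (hN : N ≠ ⊥) :
    X hW.good top 1 ∈ N := by
  obtain ⟨⟨u, hu⟩, hne⟩ := Subgroup.ne_bot_iff_exists_ne_one.1 (exists_pos_mem hNP hnorm hN)
  obtain ⟨huN, huU⟩ := hu
  rw [SetLike.mem_coe, posUnipotent_eq hW.good] at huU
  exact top_mem_of_uGe hnorm (half E8) (half E8) le_rfl
    (by rw [half_eq, nroots_eq]) u huN huU fun e => hne (Subtype.ext e)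

end CfsgLib.IterCore
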